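import Mathlib
import Cfsg.Prelude.Def_GeometricClasses

/-!
Subgroups of `GL₃(F)` that are perfect, absolutely irreducible and simple modulo scalars: basic vocabulary.
-/

set_option autoImplicit false

namespace CfsgLib.ResThree

open Matrix

variable {F : Type*} [Field F]

local notation "G3" => Matrix.GeneralLinearGroup (Fin 3) F

/-- The conditions on a residual core that do not mention an overgroup or subfields. -/
structure Core (P : Subgroup G3) : Prop where
  perfect : ⁅P, P⁆ = P
  simple : IsSimpleGroup (P ⧸ (Cfsg.Geo.scalars (Fin 3) F).subgroupOf P)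
  nonabelian : ¬ IsMulCommutative (P ⧸ (Cfsg.Geo.scalars (Fin 3) F).subgroupOf P)
  absIrred : Cfsg.Geo.ActsAbsolutelyIrreducibly (Cfsg.Geo.matrixSet P)

/-- Not realisable over a proper subfield. -/
def Primitive (P : Subgroup G3) : Prop :=
  ∀ F₀ : Subfield F, F₀ ≠ ⊤ → ¬ Cfsg.Geo.RealisableOver F₀ (Cfsg.Geo.matrixSet P)

theorem Core.of_residual {H P : Subgroup G3} (h : Cfsg.Geo.IsResidualCore H P) : Core P :=
  ⟨h.perfect, h.simple, h.nonabelian, h.absIrred⟩

theorem primitive_of_residual {H P : Subgroup G3} (h : Cfsg.Geo.IsResidualCore H P) : Primitive P :=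
  h.no_subfield

/-- The transvection with centre `c` and axis the kernel of `φ`. -/
def IsTv (g : G3) (c φ : Fin 3 → F) : Prop :=
  c ≠ 0 ∧ φ ≠ 0 ∧ φ ⬝ᵥ c = 0 ∧ (g : Matrix (Fin 3) (Fin 3) F) = 1 + Matrix.vecMulVec c φ

/-- Some member of `P` is a transvection. -/
def HasTransvection (P : Subgroup G3) : Prop :=
  ∃ g ∈ P, ∃ c φ : Fin 3 → F, IsTv g c φ

/-- A Sylow 2-subgroup of `P` is dihedral of order at least four. -/
def DihedralSylow (P : Subgroup G3) : Prop :=
  ∃ (S : Sylow 2 P) (n : ℕ), 2 ≤ n ∧ Nonempty ((S : Subgroup P) ≃* DihedralGroup n)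

end CfsgLib.ResThree
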