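import Cfsg.Agent.Lib.MaxSub.ResThree.Trace
import Cfsg.Agent.Lib.Aschbacher.Forms

/-!
Forms fixed by absolutely irreducible subgroups of `GL₃`, from their traces.
-/

set_option autoImplicit false

namespace CfsgLib.ResThree

open Matrix

variable {F : Type*} [Field F]

local notation "G3" => Matrix.GeneralLinearGroup (Fin 3) F
local notation "V" => Fin 3 → F

/-- The sesquilinear function attached to a matrix. -/
def formOf (σ : F ≃+* F) (B : Matrix (Fin 3) (Fin 3) F) (u v : V) : F := (σ ∘ v) ⬝ᵥ (B *ᵥ u)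

theorem formOf_fixes {σ : F ≃+* F} {B : Matrix (Fin 3) (Fin 3) F} {P : Subgroup G3}
    (h : ∀ g ∈ P, (g.1.map σ)ᵀ * B * g.1 = B) : Cfsg.Geo.FixesForm (Cfsg.Geo.matrixSet P) (formOf σ B) := by
  rintro _ ⟨g, hg, rfl⟩ u v
  have hv : σ ∘ (g.1 *ᵥ v) = g.1.map σ *ᵥ (σ ∘ v) :=
    funext fun i => RingHom.map_mulVec (σ : F →+* F) g.1 v i
  show (σ ∘ (g.1 *ᵥ v)) ⬝ᵥ (B *ᵥ (g.1 *ᵥ u)) = (σ ∘ v) ⬝ᵥ (B *ᵥ u)
  rw [hv]
  conv_rhs => rw [← h g hg]
  rw [← Matrix.mulVec_mulVec, ← Matrix.mulVec_mulVec, dotProduct_mulVec (σ ∘ v), Matrix.vecMul_transpose]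

theorem formOf_ne {σ : F ≃+* F} (B : G3) {v : V} (hv : v ≠ 0) :
    (∃ x, formOf σ B.1 x v ≠ 0) ∧ (∃ x, formOf σ B.1 v x ≠ 0) := by
  obtain ⟨i, hi⟩ := Function.ne_iff.1 hv
  have hi' : v i ≠ 0 := hi
  refine ⟨⟨(B⁻¹ : G3).1 *ᵥ Pi.single i 1, ?_⟩, ?_⟩
  · show (σ ∘ v) ⬝ᵥ (B.1 *ᵥ ((B⁻¹ : G3).1 *ᵥ Pi.single i 1)) ≠ 0
    rw [Matrix.mulVec_mulVec, ← Units.val_mul, mul_inv_cancel, Units.val_one, Matrix.one_mulVec, dotProduct_single,
      mul_one]
    simpa using hi'
  · have hB : B.1 *ᵥ v ≠ 0 := fun h => hv (by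
      have := congrArg ((B⁻¹ : G3).1 *ᵥ ·) h
      simpa [Matrix.mulVec_mulVec, ← Units.val_mul] using this)
    obtain ⟨j, hj⟩ := Function.ne_iff.1 hB
    refine ⟨Pi.single j 1, ?_⟩
    show (σ ∘ Pi.single j 1) ⬝ᵥ (B.1 *ᵥ v) ≠ 0
    have : σ ∘ (Pi.single j (1 : F)) = Pi.single j 1 := by
      funext k; by_cases hk : k = j <;> simp [hk, map_one]
    rw [this, single_dotProduct, one_mul]
    exact hj

theorem formOf_add_left (σ : F ≃+* F) (B : Matrix (Fin 3) (Fin 3) F) (x y v : V) :
    formOf σ B (x + y) v = formOf σ B x v + formOf σ B y v := by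
  simp [formOf, Matrix.mulVec_add, dotProduct_add]

theorem formOf_smul_left (σ : F ≃+* F) (B : Matrix (Fin 3) (Fin 3) F) (c : F) (x v : V) :
    formOf σ B (c • x) v = c * formOf σ B x v := by
  simp [formOf, Matrix.mulVec_smul, dotProduct_smul]

theorem formOf_herm {σ : F ≃+* F} {B : Matrix (Fin 3) (Fin 3) F} (hσ : ∀ a, σ (σ a) = a) (h : B.map σ = Bᵀ)
    (v w : V) : formOf σ B v w = σ (formOf σ B w v) := by
  have h1 : σ (formOf σ B w v) = v ⬝ᵥ (B.map σ *ᵥ (σ ∘ w)) := by
    show σ ((σ ∘ v) ⬝ᵥ (B *ᵥ w)) = _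
    rw [show σ ((σ ∘ v) ⬝ᵥ (B *ᵥ w)) = (σ : F →+* F) ((σ ∘ v) ⬝ᵥ (B *ᵥ w)) from rfl, RingHom.map_dotProduct]
    congr 1
    · funext i; simp [hσ]
    · funext i; exact RingHom.map_mulVec (σ : F →+* F) B w i
  rw [h1, h, dotProduct_mulVec, Matrix.vecMul_transpose, dotProduct_comm]
  rfl

theorem exists_unitary {P : Subgroup G3} (hP : CfsgLib.Aschbacher.envelope P = ⊤) (σ : F ≃+* F)
    (hne : σ ≠ RingEquiv.refl F) (hσ : ∀ a, σ (σ a) = a)
    (htr : ∀ g ∈ P, σ (g.1.trace) = ((g⁻¹ : G3)).1.trace) :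
    ∃ f : V → V → F, Cfsg.Geo.IsUnitaryForm σ f ∧ Cfsg.Geo.FixesForm (Cfsg.Geo.matrixSet P) f := by
  obtain ⟨B, c, hB, hinv⟩ := exists_form hP σ hσ htr
  have hc : σ c * c = 1 := by
    obtain ⟨i, j, hij⟩ : ∃ i j, B.1 i j ≠ 0 := by
      by_contra h
      push Not at h
      exact B.ne_zero (Matrix.ext h)
    have h1 : ∀ a b, σ (B.1 a b) = c * B.1 b a := fun a b => by
      simpa using congrFun (congrFun hB a) b
    have h2 := congrArg σ (h1 i j)
    rw [hσ, map_mul, h1 j i] at h2
    exact mul_right_cancel₀ hij (by linear_combination -h2)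
  obtain ⟨μ, hμ, hμc⟩ : ∃ μ : F, μ ≠ 0 ∧ σ μ * c = μ := by
    by_cases hall : ∀ a : F, a + σ a * c = 0
    · have hc1 : c = -1 := by have := hall 1; simp at this; linear_combination this
      exact absurd (RingEquiv.ext fun a => by have := hall a; rw [hc1] at this; show σ a = a; linear_combination -this) hne
    · push Not at hall
      obtain ⟨a, ha⟩ := hall
      refine ⟨_, ha, ?_⟩
      rw [map_add, map_mul, hσ]
      linear_combination a * hc
  let B' : G3 := Matrix.GeneralLinearGroup.mkOfDetNeZero (μ • B.1) (by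
    rw [Matrix.det_smul]; exact mul_ne_zero (pow_ne_zero _ hμ) B.det_ne_zero)
  have hB' : B'.1.map σ = B'.1ᵀ := by
    ext i j
    show σ (μ * B.1 i j) = μ * B.1 j i
    rw [map_mul, show σ (B.1 i j) = c * B.1 j i by simpa using congrFun (congrFun hB i) j, ← mul_assoc, hμc]
  refine ⟨formOf σ B'.1, ⟨hne, hσ, formOf_add_left σ _, formOf_smul_left σ _, formOf_herm hσ hB',
    fun v hv => formOf_ne B' hv⟩, formOf_fixes fun g hg => ?_⟩
  show (g.1.map σ)ᵀ * (μ • B.1) * g.1 = μ • B.1
  rw [Matrix.mul_smul, Matrix.smul_mul, hinv g hg]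

/-- An absolutely irreducible subgroup of `GL₃` with self-inverse traces: the characteristic is odd and a
quadratic form is fixed. -/
theorem exists_quadratic [Finite F] {P : Subgroup G3} (hP : CfsgLib.Aschbacher.envelope P = ⊤)
    (htr : ∀ g ∈ P, g.1.trace = ((g⁻¹ : G3)).1.trace) :
    (2 : F) ≠ 0 ∧ ∃ Q : V → F, Cfsg.Geo.IsNondegenerateQuadraticForm Q ∧
      Cfsg.Geo.FixesQuadForm (Cfsg.Geo.matrixSet P) Q := by
  obtain ⟨B, c, hB, hinv⟩ := exists_form hP (RingEquiv.refl F) (fun _ => rfl) htr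
  have h1 : ∀ a b, B.1 a b = c * B.1 b a := fun a b => by simpa using congrFun (congrFun hB a) b
  have hc : c = 1 := by
    obtain ⟨i, j, hij⟩ : ∃ i j, B.1 i j ≠ 0 := by
      by_contra h
      push Not at h
      exact B.ne_zero (Matrix.ext h)
    have hcc : (c - 1) * (c + 1) = 0 := mul_right_cancel₀ hij (by
      have h' := h1 i j
      rw [h1 j i] at h'
      linear_combination -h')
    rcases mul_eq_zero.1 hcc with e | e
    · linear_combination e
    · by_cases h2 : (2 : F) = 0
      · linear_combination e - h2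
      · exfalso
        have hm : c = -1 := by linear_combination e
        refine B.det_ne_zero ?_
        have : B.1ᵀ = -B.1 := by ext a b; simp [h1 b a, hm]
        have hd := congrArg Matrix.det this
        rw [Matrix.det_transpose, Matrix.det_neg, Fintype.card_fin] at hd
        have : (2 : F) * B.1.det = 0 := by linear_combination hd
        exact (mul_eq_zero.1 this).resolve_left h2
  have hsym : ∀ a b, B.1 a b = B.1 b a := fun a b => by rw [h1, hc, one_mul]
  let f := formOf (RingEquiv.refl F) B.1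
  have hfix : Cfsg.Geo.FixesForm (Cfsg.Geo.matrixSet P) f := formOf_fixes hinv
  have hcomm : ∀ u v, f u v = f v u := fun u v =>
    formOf_herm (σ := RingEquiv.refl F) (fun _ => rfl) (by ext a b; simpa using hsym a b) u v
  have haddr : ∀ v x y, f v (x + y) = f v x + f v y := fun v x y => by
    rw [hcomm, hcomm v x, hcomm v y]; exact formOf_add_left _ _ x y v
  have hsmr : ∀ (a : F) v x, f v (a • x) = a * f v x := fun a v x => by
    rw [hcomm, hcomm v x]; exact formOf_smul_left _ _ a x v
  have h2 : (2 : F) ≠ 0 := by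
    intro h2
    have hq : ∀ x y, f (x + y) (x + y) = f x x + f y y := fun x y => by
      rw [show f (x + y) (x + y) = f x (x + y) + f y (x + y) from formOf_add_left _ _ _ _ _, haddr, haddr,
        hcomm y x]
      linear_combination f x y * h2
    have hs : ∀ (a : F) x, f (a • x) (a • x) = a * a * f x x := fun a x => by
      rw [show f (a • x) (a • x) = a * f x (a • x) from formOf_smul_left _ _ _ _ _, hsmr, mul_assoc]
    let W : Submodule F V :=
      { carrier := {x | f x x = 0}
        add_mem' := fun {x y} hx hy => by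
          show f (x + y) (x + y) = 0
          rw [hq, show f x x = 0 from hx, show f y y = 0 from hy, add_zero]
        zero_mem' := by show f 0 0 = 0; simp [f, formOf]
        smul_mem' := fun a x hx => by show f (a • x) (a • x) = 0; rw [hs, show f x x = 0 from hx, mul_zero] }
    have hWinv : ∀ M : Matrix (Fin 3) (Fin 3) F, ∀ x ∈ W, M *ᵥ x ∈ W := fun M => by
      refine (spans_subtype hP).induction (p := fun M => ∀ x ∈ W, M *ᵥ x ∈ W) (fun g x hx => ?_)
        (fun x _ => by rw [Matrix.zero_mulVec]; exact W.zero_mem)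
        (fun A B' hA hB' x hx => by rw [Matrix.add_mulVec]; exact W.add_mem (hA x hx) (hB' x hx))
        (fun a A hA x hx => by rw [Matrix.smul_mulVec]; exact W.smul_mem a (hA x hx)) M
      show f _ _ = 0
      rw [show val P.subtype g = g.1.1 from rfl, hfix _ ⟨g.1, g.2, rfl⟩]; exact hx
    by_cases hW : ∃ x ∈ W, x ≠ 0
    · obtain ⟨x, hx, hx0⟩ := hW
      obtain ⟨i, hi⟩ := Function.ne_iff.1 hx0
      have hi' : x i ≠ 0 := hi
      have hall : ∀ j, f (Pi.single j 1) (Pi.single j 1) = 0 := fun j => by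
        have := hWinv (Matrix.single j i (x i)⁻¹) x hx
        have e : Matrix.single j i (x i)⁻¹ *ᵥ x = Pi.single j (1 : F) := by
          ext k; simp [Matrix.mulVec, dotProduct, Matrix.single_apply, Pi.single_apply, ite_and, eq_comm, hi']
        rwa [e] at this
      have hd : ∀ j, B.1 j j = 0 := fun j => by
        have := hall j
        simpa [f, formOf] using this
      refine B.det_ne_zero ?_
      rw [Matrix.det_fin_three, hd 0, hd 1, hd 2, hsym 1 0, hsym 2 1, hsym 2 0]
      linear_combination B.1 0 1 * B.1 1 2 * B.1 0 2 * h2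
    · push Not at hW
      have : Fintype F := Fintype.ofFinite F
      classical
      have hinj : Function.Injective fun x : V => f x x := fun x y e => by
        have : x - y ∈ W := by
          show f (x - y) (x - y) = 0
          have e' : f x x = f y y := e
          have := hq (x - y) y
          rw [sub_add_cancel] at this
          linear_combination e' - this
        exact sub_eq_zero.1 (hW _ this)
      have := Fintype.card_le_of_injective _ hinj
      rw [Fintype.card_fun, Fintype.card_fin] at this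
      have h1F := Fintype.one_lt_card (α := F)
      have h3 : Fintype.card F ^ 1 < Fintype.card F ^ 3 := Nat.pow_lt_pow_right h1F (by norm_num)
      rw [pow_one] at h3
      omega
  refine ⟨h2, fun v => f v v, ⟨fun a v => ?_, ?_, fun v hv => ?_⟩, ?_⟩
  · rw [show f (a • v) (a • v) = a * f v (a • v) from formOf_smul_left _ _ _ _ _, hsmr]; ring
  · have hp : QuadraticMap.polar (fun v => f v v) = fun u v => 2 * f u v := by
      funext u v
      simp only [QuadraticMap.polar]
      rw [show f (u + v) (u + v) = f u (u + v) + f v (u + v) from formOf_add_left _ _ _ _ _, haddr, haddr, hcomm v u]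
      ring
    refine ⟨fun x y v => ?_, fun a x v => ?_, fun v x y => ?_, fun a v x => ?_⟩ <;> simp only [hp]
    · rw [show f (x + y) v = f x v + f y v from formOf_add_left _ _ _ _ _]; ring
    · rw [show f (a • x) v = a * f x v from formOf_smul_left _ _ _ _ _]; ring
    · rw [haddr]; ring
    · rw [hsmr]; ring
  · obtain ⟨x, hx⟩ := (formOf_ne (σ := RingEquiv.refl F) B hv).1
    have hp : ∀ u w, QuadraticMap.polar (fun v => f v v) u w = 2 * f u w := fun u w => by
      simp only [QuadraticMap.polar]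
      rw [show f (u + w) (u + w) = f u (u + w) + f w (u + w) from formOf_add_left _ _ _ _ _, haddr, haddr, hcomm w u]
      ring
    exact ⟨⟨x, by rw [hp]; exact mul_ne_zero h2 hx⟩, ⟨x, by rw [hp, hcomm]; exact mul_ne_zero h2 hx⟩⟩
  · intro s hs v; exact hfix s hs v v

end CfsgLib.ResThree
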