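import Cfsg.Agent.Lib.MaxSub.ResThree.Trace
import Cfsg.Agent.Lib.GW.Reduction
import Cfsg.Agent.S0205

/-!
Basic structure of a perfect absolutely irreducible subgroup of `GL₃` that is simple modulo scalars.
-/

set_option autoImplicit false

namespace CfsgLib.ResThree

open Matrix

variable {F : Type*} [Field F]

local notation "G3" => Matrix.GeneralLinearGroup (Fin 3) F
local notation "Zs" => Cfsg.Geo.scalars (Fin 3) F

variable {P : Subgroup (Matrix.GeneralLinearGroup (Fin 3) F)}

theorem Core.envelope_top (hP : Core P) : CfsgLib.Aschbacher.envelope P = ⊤ :=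
  CfsgLib.Aschbacher.envelope_eq_top hP.absIrred

theorem Core.isPerfect (hP : Core P) : Group.IsPerfect P :=
  ⟨Subgroup.map_injective P.subtype_injective (by
    rw [Subgroup.map_subtype_commutator, ← MonoidHom.range_eq_map, Subgroup.range_subtype]; exact hP.perfect)⟩

theorem det_of_perfect (h : ⁅P, P⁆ = P) {g : G3} (hg : g ∈ P) : g.1.det = 1 := by
  have hle : ⁅P, P⁆ ≤ (Matrix.GeneralLinearGroup.det : G3 →* Fˣ).ker := by
    rw [Subgroup.commutator_le]
    intro a _ b _
    rw [MonoidHom.mem_ker, map_commutatorElement, commutatorElement_eq_one_iff_mul_comm, mul_comm]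
  rw [h] at hle
  exact congrArg Units.val (MonoidHom.mem_ker.1 (hle hg))

theorem Core.det_eq (hP : Core P) {g : G3} (hg : g ∈ P) : g.1.det = 1 := det_of_perfect hP.perfect hg

theorem Core.le_specialLinear (hP : Core P) : P ≤ Cfsg.Geo.specialLinear (Fin 3) F := fun g hg => by
  rw [Cfsg.Geo.specialLinear, MonoidHom.mem_ker]
  exact Units.ext (hP.det_eq hg)

theorem scalar_mem_center (P : Subgroup G3) : Subgroup.subgroupOf Zs P ≤ Subgroup.center P := by
  intro z hz
  obtain ⟨c, hc⟩ := (Cfsg.Geo.mem_scalars_iff z.1).1 hz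
  rw [Subgroup.mem_center_iff]
  intro g
  refine Subtype.ext (Units.ext ?_)
  rw [Subgroup.coe_mul, Subgroup.coe_mul, Units.val_mul, Units.val_mul, hc, Matrix.smul_mul, Matrix.mul_smul, one_mul,
    mul_one]

theorem Core.center_eq (hP : Core P) : Subgroup.center P = Subgroup.subgroupOf Zs P := by
  refine le_antisymm (fun z hz => ?_) (scalar_mem_center P)
  obtain ⟨c, hc⟩ := scalar_of_commute hP.envelope_top (M := z.1.1) (fun g hg =>
    congrArg (fun x : P => x.1.1) (Subgroup.mem_center_iff.1 hz ⟨g, hg⟩))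
  have hc0 : c ≠ 0 := by
    rintro rfl
    rw [zero_smul] at hc
    exact z.1.ne_zero hc
  exact (Cfsg.Geo.mem_scalars_iff z.1).2 ⟨Units.mk0 c hc0, hc⟩

/-- A scalar in `P` is a cube root of unity. -/
theorem Core.scalar_pow (hP : Core P) {g : G3} (hg : g ∈ P) {c : F} (hc : g.1 = c • (1 : Matrix (Fin 3) (Fin 3) F)) :
    c ^ 3 = 1 := by
  have := hP.det_eq hg
  rwa [hc, Matrix.det_smul, Matrix.det_one, mul_one, Fintype.card_fin] at this

theorem Core.pow_three_of_scalar (hP : Core P) {z : P} (hz : z ∈ Subgroup.subgroupOf Zs P) : z ^ 3 = 1 := by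
  obtain ⟨c, hc⟩ := (Cfsg.Geo.mem_scalars_iff z.1).1 hz
  refine Subtype.ext (Units.ext ?_)
  rw [SubmonoidClass.coe_pow, Units.val_pow_eq_pow_val, hc, smul_pow, one_pow, hP.scalar_pow z.2 hc, one_smul]
  rfl

variable [Finite F]

theorem Core.card_scalar (hP : Core P) : Nat.card (Subgroup.subgroupOf Zs P) ∣ 3 := by
  classical
  have hval : ∀ z : Subgroup.subgroupOf Zs P, ∃ c : F, z.1.1.1 = c • (1 : Matrix (Fin 3) (Fin 3) F) := fun z => by
    obtain ⟨c, hc⟩ := (Cfsg.Geo.mem_scalars_iff z.1.1).1 z.2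
    exact ⟨c, hc⟩
  choose f hf using hval
  have h00 : ∀ z, z.1.1.1 0 0 = f z := fun z => by simpa using congrFun (congrFun (hf z) 0) 0
  let φ : Subgroup.subgroupOf Zs P →* F :=
    { toFun := fun z => z.1.1.1 0 0
      map_one' := by simp
      map_mul' := fun a b => by
        rw [h00 a, h00 b]
        simp only [Subgroup.coe_mul, Units.val_mul]
        rw [hf a, hf b]
        simp [mul_comm] }
  have hcyc : IsCyclic (Subgroup.subgroupOf Zs P) := isCyclic_of_subgroup_isDomain φ fun a b e => by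
    have e' : f a = f b := by rw [← h00 a, ← h00 b]; exact e
    exact Subtype.ext (Subtype.ext (Units.ext (by rw [hf a, hf b, e'])))
  rw [← IsCyclic.exponent_eq_card]
  exact Monoid.exponent_dvd_of_forall_pow_eq_one fun z => Subtype.ext (hP.pow_three_of_scalar z.2)

theorem Core.odd_scalar (hP : Core P) : Odd (Nat.card (Subgroup.subgroupOf Zs P)) :=
  Odd.of_dvd_nat (by decide) hP.card_scalar

theorem Core.not_le_scalar (hP : Core P) : ¬ (⊤ : Subgroup P) ≤ Subgroup.subgroupOf Zs P := fun h =>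
  hP.nonabelian ⟨⟨fun a b => by
    haveI : Subsingleton (P ⧸ Subgroup.subgroupOf Zs P) := by
      rw [top_le_iff.1 h]; exact QuotientGroup.subsingleton_quotient_top
    exact Subsingleton.elim _ _⟩⟩

/-- A normal subgroup of `P` is scalar or everything. -/
theorem Core.normal_cases (hP : Core P) (N : Subgroup P) [N.Normal] : N ≤ Subgroup.subgroupOf Zs P ∨ N = ⊤ := by
  haveI := hP.simple
  haveI := hP.isPerfect
  rcases (Subgroup.Normal.map (inferInstance : N.Normal) (QuotientGroup.mk' (Subgroup.subgroupOf Zs P))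
    (QuotientGroup.mk'_surjective _)).eq_bot_or_eq_top with h | h
  · left
    rwa [← QuotientGroup.ker_mk' (Subgroup.subgroupOf Zs P), ← Subgroup.map_eq_bot_iff]
  · right
    have hsup : N ⊔ Subgroup.subgroupOf Zs P = ⊤ := by
      have := congrArg (Subgroup.comap (QuotientGroup.mk' (Subgroup.subgroupOf Zs P))) h
      rwa [Subgroup.comap_map_eq, QuotientGroup.ker_mk', Subgroup.comap_top] at this
    have hz : ∀ x : P, ∃ z ∈ Subgroup.subgroupOf Zs P, QuotientGroup.mk' N x = QuotientGroup.mk' N z := fun x => by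
      have hx : x ∈ N ⊔ Subgroup.subgroupOf Zs P := by rw [hsup]; exact Subgroup.mem_top x
      obtain ⟨n, hn, z, hz, rfl⟩ := Subgroup.mem_sup_of_normal_left.1 hx
      refine ⟨z, hz, ?_⟩
      rw [map_mul]
      have h1 : QuotientGroup.mk' N n = 1 := (QuotientGroup.eq_one_iff n).2 hn
      rw [h1, one_mul]
    have hcomm : ∀ a b : P ⧸ N, a * b = b * a := by
      intro a b
      obtain ⟨x, hx⟩ := QuotientGroup.mk'_surjective N a
      obtain ⟨y, hy⟩ := QuotientGroup.mk'_surjective N b
      obtain ⟨u, hu, e⟩ := hz x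
      rw [← hx, ← hy, e, ← map_mul, ← map_mul, Subgroup.mem_center_iff.1 (scalar_mem_center P hu) y]
    haveI : IsMulCommutative (P ⧸ N) := ⟨⟨hcomm⟩⟩
    haveI : Group.IsPerfect (P ⧸ N) :=
      Group.IsPerfect.ofSurjective (f := QuotientGroup.mk' N) (QuotientGroup.mk'_surjective N)
    have : Subsingleton (P ⧸ N) := Group.IsPerfect.subsingleton_of_isMulCommutative
    exact QuotientGroup.subgroup_eq_top_of_subsingleton N this

theorem Core.not_odd (hP : Core P) : ¬ Odd (Nat.card P) := fun h => by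
  haveI := hP.isPerfect
  haveI := CfsgLib.GW.subsingleton_of_odd h
  exact hP.not_le_scalar fun z _ => by rw [Subsingleton.elim z 1]; exact one_mem _

theorem Core.two_dvd (hP : Core P) : 2 ∣ Nat.card P :=
  even_iff_two_dvd.1 (Nat.not_odd_iff_even.1 hP.not_odd)

theorem Core.exists_involution (hP : Core P) : ∃ t : P, orderOf t = 2 := by
  haveI : Fact (Nat.Prime 2) := ⟨Nat.prime_two⟩
  exact exists_prime_orderOf_dvd_card' 2 hP.two_dvd

theorem Core.index_ne_two (hP : Core P) (H : Subgroup P) : H.index ≠ 2 := by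
  haveI := hP.isPerfect
  exact CfsgLib.GW.index_ne_two H

theorem Core.oddCore_eq (hP : Core P) : Cfsg.oddCore P = Subgroup.subgroupOf Zs P := by
  refine le_antisymm ?_ (le_sSup ⟨(inferInstance : (Subgroup.subgroupOf Zs P).Normal), Nat.coprime_two_right.2 hP.odd_scalar⟩)
  rcases hP.normal_cases (Cfsg.oddCore P) with h | h
  · exact h
  · have h2 : ¬ 2 ∣ Nat.card (Cfsg.oddCore P) := CfsgLib.not_dvd_card_pPrimeCore Nat.prime_two
    rw [h, Nat.card_congr Subgroup.topEquiv.toEquiv] at h2
    exact absurd hP.two_dvd h2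

end CfsgLib.ResThree
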