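import Cfsg.Agent.Lib.MaxSub.ResThree.Realise
import Mathlib.RingTheory.LittleWedderburn

/-!
In degree three the algebra spanned over a subfield always contains a rank one element, so a group
with traces in the subfield is realised over it.
-/

set_option autoImplicit false

namespace CfsgLib.ResThree

open Matrix Module

/-- A finite monoid element has an idempotent power. -/
theorem exists_pow_idem {M : Type*} [Monoid M] [Finite M] (x : M) :
    ∃ n, 0 < n ∧ x ^ n * x ^ n = x ^ n := by
  obtain ⟨i, j, hne, h⟩ := Finite.exists_ne_map_eq_of_infinite (fun n : ℕ => x ^ n)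
  wlog hij : i < j generalizing i j
  · exact this j i hne.symm h.symm (lt_of_le_of_ne (not_lt.1 hij) hne.symm)
  try simp only at h
  have hper : ∀ m, i ≤ m → x ^ (m + (j - i)) = x ^ m := by
    intro m hm
    obtain ⟨d, rfl⟩ := Nat.le.dest hm
    rw [show i + d + (j - i) = j + d by omega, pow_add, ← h, ← pow_add]
  have hmul : ∀ k m, i ≤ m → x ^ (m + k * (j - i)) = x ^ m := by
    intro k
    induction k with
    | zero => simp
    | succ k ih =>
      intro m hm
      rw [add_mul, one_mul, ← add_assoc, hper _ (le_trans hm (Nat.le_add_right _ _)), ih m hm]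
  refine ⟨(i + 1) * (j - i), Nat.mul_pos (by omega) (by omega), ?_⟩
  rw [← pow_add, hmul (i + 1) _ (le_trans (Nat.le_succ i) (Nat.le_mul_of_pos_right _ (by omega)))]

variable {F : Type*} [Field F]

/-- A matrix of rank one factors as a column times a row. -/
theorem exists_vecMulVec {M : Matrix (Fin 3) (Fin 3) F} (hM : M.rank ≤ 1) :
    ∃ u v : Fin 3 → F, M = Matrix.vecMulVec u v := by
  by_cases h0 : M = 0
  · exact ⟨0, 0, by rw [h0]; ext; simp [Matrix.vecMulVec_apply]⟩
  obtain ⟨j, hj⟩ : ∃ j, M.col j ≠ 0 := by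
    by_contra h
    push Not at h
    exact h0 (Matrix.ext fun i j => congrFun (h j) i)
  let u : Fin 3 → F := M.col j
  have hmem : ∀ k, M.col k ∈ Submodule.span F {u} := by
    have hle : Submodule.span F {u} ≤ LinearMap.range M.mulVecLin := by
      rw [Submodule.span_le, Set.singleton_subset_iff]
      exact ⟨Pi.single j 1, by simp [u]⟩
    have heq := Submodule.eq_of_le_of_finrank_le hle (by rw [finrank_span_singleton hj]; exact hM)
    exact fun k => heq ▸ ⟨Pi.single k 1, by simp⟩
  choose v hv using fun k => Submodule.mem_span_singleton.1 (hmem k)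
  refine ⟨u, v, ?_⟩
  ext i k
  rw [Matrix.vecMulVec_apply, mul_comm]
  exact (congrFun (hv k) i).symm

/-- A unital subring spanning the three by three matrices contains a non-zero matrix of rank one. -/
theorem exists_rank_one [Finite F] (R : Subring (Matrix (Fin 3) (Fin 3) F))
    (hspan : Submodule.span F (R : Set (Matrix (Fin 3) (Fin 3) F)) = ⊤) :
    ∃ x ∈ R, x ≠ 0 ∧ x.rank ≤ 1 := by
  obtain ⟨x, hxR, hx0, hxdet⟩ : ∃ x ∈ R, x ≠ 0 ∧ x.det = 0 := by
    by_contra h
    push Not at h
    have : NoZeroDivisors R := ⟨fun {a b} hab => by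
      by_contra hc
      push Not at hc
      have ha : (a : Matrix (Fin 3) (Fin 3) F).det ≠ 0 := h _ a.2 (fun e => hc.1 (Subtype.ext e))
      have hb : (b : Matrix (Fin 3) (Fin 3) F).det ≠ 0 := h _ b.2 (fun e => hc.2 (Subtype.ext e))
      exact mul_ne_zero ha hb (by
        rw [← Matrix.det_mul, ← Subring.coe_mul, hab]; simp)⟩
    have : Nontrivial R := ⟨⟨0, 1, fun e => one_ne_zero (congrArg Subtype.val e).symm⟩⟩
    have : IsDomain R := NoZeroDivisors.to_isDomain R
    have hcomm := (Finite.isDomain_to_isField R).mul_comm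
    have key : ∀ a b : Matrix (Fin 3) (Fin 3) F, a * b = b * a := by
      intro a b
      refine Submodule.span_induction (p := fun a _ => a * b = b * a) ?_ ?_ ?_ ?_
        (hspan.symm ▸ Submodule.mem_top : a ∈ Submodule.span F (R : Set (Matrix (Fin 3) (Fin 3) F)))
      · intro a ha
        refine Submodule.span_induction (p := fun b _ => a * b = b * a) ?_ ?_ ?_ ?_
          (hspan.symm ▸ Submodule.mem_top : b ∈ Submodule.span F (R : Set (Matrix (Fin 3) (Fin 3) F)))
        · exact fun b hb => congrArg Subtype.val (hcomm ⟨a, ha⟩ ⟨b, hb⟩)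
        · simp
        · intro u v _ _ hu hv; rw [mul_add, add_mul, hu, hv]
        · intro c u _ hu; rw [Matrix.mul_smul, Matrix.smul_mul, hu]
      · simp
      · intro u v _ _ hu hv; rw [mul_add, add_mul, hu, hv]
      · intro c u _ hu; rw [Matrix.mul_smul, Matrix.smul_mul, hu]
    have := congrFun (congrFun (key (Matrix.single 0 1 1) (Matrix.single 1 0 1)) 0) 0
    simp at this
  have hlt : x.rank ≤ 2 := by
    by_contra h
    push Not at h
    have hle : x.rank ≤ 3 := by simpa using Matrix.rank_le_card_width x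
    have : LinearMap.range x.mulVecLin = ⊤ :=
      Submodule.eq_top_of_finrank_eq (by simp [Matrix.rank] at h hle ⊢; omega)
    exact (Matrix.isUnit_iff_isUnit_det x).1
      (Matrix.mulVec_surjective_iff_isUnit.1 (LinearMap.range_eq_top.1 this)) |>.ne_zero hxdet
  by_cases h1 : x.rank ≤ 1
  · exact ⟨x, hxR, hx0, h1⟩
  have hx2 : x.rank = 2 := by omega
  by_cases hxx : (x * x).rank ≤ 1
  · by_cases hz : x * x = 0
    · -- the image lies in the kernel
      exfalso
      have hle : LinearMap.range x.mulVecLin ≤ LinearMap.ker x.mulVecLin := by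
        rintro _ ⟨v, rfl⟩
        simp [Matrix.mulVec_mulVec, hz]
      have := Submodule.finrank_mono hle
      have hrn := x.mulVecLin.finrank_range_add_finrank_ker
      simp [Matrix.rank] at hx2 hrn
      omega
    · exact ⟨x * x, R.mul_mem hxR hxR, hz, hxx⟩
  -- `x` is bijective on its image
  have hstab : LinearMap.range (x * x).mulVecLin = LinearMap.range x.mulVecLin := by
    refine Submodule.eq_of_le_of_finrank_le (by rw [Matrix.mulVecLin_mul]; exact LinearMap.range_comp_le_range _ _) ?_
    simp only [Matrix.rank] at hx2 hxx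
    omega
  have hpow : ∀ n, 0 < n → LinearMap.range (x ^ n).mulVecLin = LinearMap.range x.mulVecLin := by
    intro n hn
    induction n with
    | zero => omega
    | succ n ih =>
      rcases Nat.eq_zero_or_pos n with rfl | hn'
      · simp
      · rw [pow_succ', Matrix.mulVecLin_mul, LinearMap.range_comp, ih hn', ← LinearMap.range_comp,
          ← Matrix.mulVecLin_mul, hstab]
  obtain ⟨n, hn, he⟩ := exists_pow_idem x
  refine ⟨1 - x ^ n, R.sub_mem R.one_mem (R.pow_mem hxR n), ?_, ?_⟩
  · intro h
    rw [sub_eq_zero] at h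
    have := congrArg (fun m : Matrix (Fin 3) (Fin 3) F => m.det) h
    simp [hxdet, hn.ne'] at this
  · have hle : LinearMap.range (1 - x ^ n).mulVecLin ≤ LinearMap.ker (x ^ n).mulVecLin := by
      rintro _ ⟨v, rfl⟩
      simp [Matrix.mulVec_sub, Matrix.mulVec_mulVec, he]
    have := Submodule.finrank_mono hle
    have hrn := (x ^ n).mulVecLin.finrank_range_add_finrank_ker
    rw [hpow n hn] at hrn
    simp [Matrix.rank] at hx2 hrn ⊢
    omega

/-- Realisation over a subfield containing all traces, degree three. -/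
theorem realisable_of_trace_three [Finite F] {P : Subgroup (GL (Fin 3) F)}
    (hP : CfsgLib.Aschbacher.envelope P = ⊤) {F₀ : Subfield F}
    (htr : ∀ g ∈ P, g.1.trace ∈ F₀) :
    Cfsg.Geo.RealisableOver F₀ (Cfsg.Geo.matrixSet P) := by
  set A := Submodule.span F₀ (Cfsg.Geo.matrixSet P) with hA
  have hmul : ∀ a ∈ A, ∀ b ∈ A, a * b ∈ A := by
    intro a ha b hb
    refine Submodule.span_induction (p := fun a _ => a * b ∈ A) ?_ ?_ ?_ ?_ ha
    · rintro _ ⟨g, hg, rfl⟩
      refine Submodule.span_induction
        (p := fun b _ => (g : Matrix (Fin 3) (Fin 3) F) * b ∈ A) ?_ ?_ ?_ ?_ hb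
      · rintro _ ⟨k, hk, rfl⟩
        exact Submodule.subset_span ⟨g * k, P.mul_mem hg hk, Units.val_mul g k⟩
      · simp
      · intro u v _ _ hu hv; rw [mul_add]; exact add_mem hu hv
      · intro c u _ hu; rw [Matrix.mul_smul]; exact A.smul_mem c hu
    · simp
    · intro u v _ _ hu hv; rw [add_mul]; exact add_mem hu hv
    · intro c u _ hu; rw [Matrix.smul_mul]; exact A.smul_mem c hu
  let R : Subring (Matrix (Fin 3) (Fin 3) F) :=
    { carrier := A
      one_mem' := Submodule.subset_span ⟨1, P.one_mem, rfl⟩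
      mul_mem' := fun {a b} ha hb => hmul a ha b hb
      zero_mem' := A.zero_mem
      add_mem' := A.add_mem
      neg_mem' := A.neg_mem }
  have hspan : Submodule.span F (A : Set (Matrix (Fin 3) (Fin 3) F)) = ⊤ :=
    top_le_iff.1 (hP ▸ Submodule.span_mono Submodule.subset_span)
  obtain ⟨x, hxA, hx0, hx1⟩ := exists_rank_one R hspan
  obtain ⟨u, v, rfl⟩ := exists_vecMulVec hx1
  exact realisable_of_trace hP htr (fun e => hx0 (by ext; simp [Matrix.vecMulVec_apply, e]))
    (fun e => hx0 (by ext; simp [Matrix.vecMulVec_apply, e])) hxA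

end CfsgLib.ResThree
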