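import Cfsg.Agent.Lib.MaxSub.ResThree.Trace

/-!
An absolutely irreducible group with traces in a subfield and a suitable rank one element of its
group algebra over that subfield is realised over the subfield.
-/

set_option autoImplicit false

namespace CfsgLib.ResThree

open Matrix

variable {ι : Type} [Fintype ι] [DecidableEq ι] {F : Type*} [Field F]

theorem exists_orbit_basis {P : Subgroup (GL ι F)} (hP : CfsgLib.Aschbacher.envelope P = ⊤) {a : ι → F} (ha : a ≠ 0) :
    ∃ X : ι → P, IsUnit (Matrix.of fun i j => ((X j).1.1 *ᵥ a) i : Matrix ι ι F) := by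
  classical
  have hspan : Submodule.span F (Set.range fun g : P => g.1.1 *ᵥ a) = ⊤ := by
    rw [eq_top_iff]
    intro v _
    obtain ⟨i, hi⟩ := Function.ne_iff.1 ha
    have hi' : a i ≠ 0 := hi
    have hv : v = vecMulVec v (Pi.single i (a i)⁻¹) *ᵥ a := by
      rw [Matrix.vecMulVec_mulVec, single_dotProduct, inv_mul_cancel₀ hi']
      simp
    rw [hv]
    refine (spans_subtype hP).induction (p := fun M => M *ᵥ a ∈ Submodule.span F (Set.range fun g : P => g.1.1 *ᵥ a))
      (fun g => Submodule.subset_span ⟨g, rfl⟩) (by simp) (fun A B hA hB => by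
        rw [Matrix.add_mulVec]; exact Submodule.add_mem _ hA hB) (fun c A hA => by
        rw [Matrix.smul_mulVec]; exact Submodule.smul_mem _ c hA) _
  obtain ⟨s, hs, htop, hli⟩ := exists_linearIndependent F (Set.range fun g : P => g.1.1 *ᵥ a)
  rw [hspan] at htop
  let b : Module.Basis s F (ι → F) := Module.Basis.mk hli (by rw [Subtype.range_coe, htop])
  have : Finite s := LinearIndependent.finite hli
  have hcard : Nat.card s = Nat.card ι := by
    have : Fintype s := Fintype.ofFinite s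
    rw [Nat.card_eq_fintype_card, Nat.card_eq_fintype_card, ← Module.finrank_eq_card_basis b,
      Module.finrank_fintype_fun_eq_card]
  let e : ι ≃ s := Finite.equivFinOfCardEq hcard.symm |>.trans (Finite.equivFin s).symm
  choose X hX using fun j => hs (e j).2
  refine ⟨X, ?_⟩
  have hcol : (Matrix.of fun i j => ((X j).1.1 *ᵥ a) i : Matrix ι ι F).col = fun j => ((e j : ι → F)) := by
    funext j
    exact hX j
  rw [← Matrix.linearIndependent_cols_iff_isUnit, hcol]
  exact hli.comp e e.injective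

theorem exists_orbit_rows {P : Subgroup (GL ι F)} (hP : CfsgLib.Aschbacher.envelope P = ⊤) {b : ι → F} (hb : b ≠ 0) :
    ∃ Y : ι → P, IsUnit (Matrix.of fun i j => (b ᵥ* (Y i).1.1) j : Matrix ι ι F) := by
  classical
  have hspan : Submodule.span F (Set.range fun g : P => b ᵥ* g.1.1) = ⊤ := by
    rw [eq_top_iff]
    intro v _
    obtain ⟨i, hi⟩ := Function.ne_iff.1 hb
    have hi' : b i ≠ 0 := hi
    have hv : v = b ᵥ* vecMulVec (Pi.single i (b i)⁻¹) v := by
      rw [Matrix.vecMul_vecMulVec, dotProduct_single, mul_inv_cancel₀ hi', one_smul]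
    rw [hv]
    refine (spans_subtype hP).induction (p := fun M => b ᵥ* M ∈ Submodule.span F (Set.range fun g : P => b ᵥ* g.1.1))
      (fun g => Submodule.subset_span ⟨g, rfl⟩) (by simp) (fun A B hA hB => by
        rw [Matrix.vecMul_add]; exact Submodule.add_mem _ hA hB) (fun c A hA => by
        rw [Matrix.vecMul_smul]; exact Submodule.smul_mem _ c hA) _
  obtain ⟨s, hs, htop, hli⟩ := exists_linearIndependent F (Set.range fun g : P => b ᵥ* g.1.1)
  rw [hspan] at htop
  let bs : Module.Basis s F (ι → F) := Module.Basis.mk hli (by rw [Subtype.range_coe, htop])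
  have : Finite s := LinearIndependent.finite hli
  have hcard : Nat.card s = Nat.card ι := by
    have : Fintype s := Fintype.ofFinite s
    rw [Nat.card_eq_fintype_card, Nat.card_eq_fintype_card, ← Module.finrank_eq_card_basis bs,
      Module.finrank_fintype_fun_eq_card]
  let e : ι ≃ s := Finite.equivFinOfCardEq hcard.symm |>.trans (Finite.equivFin s).symm
  choose Y hY using fun j => hs (e j).2
  refine ⟨Y, ?_⟩
  have hrow : (Matrix.of fun i j => (b ᵥ* (Y i).1.1) j : Matrix ι ι F).row = fun j => ((e j : ι → F)) := by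
    funext j
    exact hY j
  rw [← Matrix.linearIndependent_rows_iff_isUnit, hrow]
  exact hli.comp e e.injective

/-- Realisability from traces. -/
theorem realisable_of_trace {P : Subgroup (GL ι F)} (hP : CfsgLib.Aschbacher.envelope P = ⊤) {F₀ : Subfield F}
    (htr : ∀ g ∈ P, g.1.trace ∈ F₀) {a b : ι → F} (ha : a ≠ 0) (hb : b ≠ 0)
    (hE : vecMulVec a b ∈ Submodule.span F₀ (Cfsg.Geo.matrixSet P)) :
    Cfsg.Geo.RealisableOver F₀ (Cfsg.Geo.matrixSet P) := by
  obtain ⟨X, hX⟩ := exists_orbit_basis hP ha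
  obtain ⟨Y, hY⟩ := exists_orbit_rows hP hb
  have key : ∀ g ∈ P, b ⬝ᵥ (g.1 *ᵥ a) ∈ F₀ := fun g hg => by
    have : b ⬝ᵥ (g.1 *ᵥ a) = (g.1 * vecMulVec a b).trace := by
      rw [Matrix.mul_vecMulVec, Matrix.trace_vecMulVec, dotProduct_comm]
    rw [this]
    have hgen : ∀ M ∈ Submodule.span F₀ (Cfsg.Geo.matrixSet P), (g.1 * M).trace ∈ F₀ := by
      intro M hM
      induction hM using Submodule.span_induction with
      | mem M hM => obtain ⟨h, hh, rfl⟩ := hM; rw [← Units.val_mul]; exact htr _ (mul_mem hg hh)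
      | zero => simp [F₀.zero_mem]
      | add A B _ _ hA hB => rw [mul_add, Matrix.trace_add]; exact F₀.add_mem hA hB
      | smul c A _ hA =>
        rw [show (c • A : Matrix ι ι F) = (c : F) • A from rfl, Matrix.mul_smul, Matrix.trace_smul]
        exact F₀.mul_mem c.2 hA
    exact hgen _ hE
  let W : Matrix ι ι F := Matrix.of fun i j => ((X j).1.1 *ᵥ a) i
  let R : Matrix ι ι F := Matrix.of fun i j => (b ᵥ* (Y i).1.1) j
  have hentry : ∀ M : Matrix ι ι F, ∀ i j, (R * M * W) i j = b ⬝ᵥ (((Y i).1.1 * M * (X j).1.1) *ᵥ a) := by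
    intro M i j
    rw [← Matrix.mulVec_mulVec, ← Matrix.mulVec_mulVec, dotProduct_mulVec, dotProduct_mulVec]
    rfl
  have hRW : ∀ g ∈ P, ∀ i j, (R * g.1 * W) i j ∈ F₀ := fun g hg i j => by
    rw [hentry, ← Units.val_mul, ← Units.val_mul]
    exact key _ (mul_mem (mul_mem (Y i).2 hg) (X j).2)
  have hN : ∀ i j, (R * W) i j ∈ F₀ := fun i j => by simpa using hRW 1 P.one_mem i j
  let R' : Matrix ι ι F₀ := Matrix.of fun i j => ⟨(R * W) i j, hN i j⟩
  have hdet : R'.det ≠ 0 := by
    intro h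
    have h1 : (R * W).det = F₀.subtype R'.det := by
      rw [RingHom.map_det, RingHom.mapMatrix_apply]; rfl
    rw [h, map_zero, Matrix.det_mul] at h1
    exact mul_ne_zero ((Matrix.isUnit_iff_isUnit_det R).1 hY).ne_zero ((Matrix.isUnit_iff_isUnit_det W).1 hX).ne_zero h1
  have hinv : (R * W)⁻¹ = R'⁻¹.map F₀.subtype := by
    refine Matrix.inv_eq_right_inv ?_
    rw [show R * W = R'.map F₀.subtype from rfl, ← Matrix.map_mul, Matrix.mul_nonsing_inv _ (Ne.isUnit hdet),
      Matrix.map_one _ (map_zero _) (map_one _)]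
  refine ⟨hX.unit⁻¹, ?_⟩
  rintro _ ⟨g, hg, rfl⟩ i j
  have hW : IsUnit W.det := (Matrix.isUnit_iff_isUnit_det W).1 hX
  have hR : IsUnit R.det := (Matrix.isUnit_iff_isUnit_det R).1 hY
  have hWi : ((hX.unit⁻¹ : GL ι F)).1 = W⁻¹ := by
    rw [Matrix.coe_units_inv]; rfl
  have hgoal : ((hX.unit⁻¹ : GL ι F)).1 * g.1 * ((hX.unit⁻¹)⁻¹ : GL ι F).1 = (R * W)⁻¹ * (R * g.1 * W) := by
    rw [hWi, inv_inv, IsUnit.unit_spec, Matrix.mul_inv_rev]
    simp only [mul_assoc]
    rw [← mul_assoc R⁻¹ R, Matrix.nonsing_inv_mul _ hR, one_mul]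
  have : (((hX.unit⁻¹ : GL ι F)).1 * g.1 * ((hX.unit⁻¹)⁻¹ : GL ι F).1) i j ∈ F₀ := by
    rw [hgoal, hinv, Matrix.mul_apply]
    exact F₀.sum_mem fun k _ => F₀.mul_mem (R'⁻¹ i k).2 (hRW g hg k j)
  exact this

end CfsgLib.ResThree
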