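import Cfsg.Agent.Lib.MaxSub.ResThree.Basic
import Cfsg.Agent.Lib.Aschbacher.Basic

/-!
Traces of absolutely irreducible matrix groups: intertwiners, invariant forms and realisability.
-/

set_option autoImplicit false

namespace CfsgLib.ResThree

open Matrix

variable {ι : Type} [Fintype ι] [DecidableEq ι] {F : Type*} [Field F]

/-- The value of `ρ` at `x` as a matrix. -/
abbrev val {Γ : Type*} [Group Γ] (ρ : Γ →* GL ι F) (x : Γ) : Matrix ι ι F := (ρ x : GL ι F).1

/-- The image spans the matrix algebra. -/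
def Spans {Γ : Type*} [Group Γ] (ρ : Γ →* GL ι F) : Prop :=
  Submodule.span F (Set.range fun x => val ρ x) = ⊤

theorem spans_subtype {P : Subgroup (GL ι F)} (h : CfsgLib.Aschbacher.envelope P = ⊤) : Spans P.subtype := by
  rw [Spans, ← h]
  refine le_antisymm (Submodule.span_le.2 ?_) (Submodule.span_le.2 ?_)
  · rintro _ ⟨x, rfl⟩; exact CfsgLib.Aschbacher.mem_envelope x.2
  · rintro _ ⟨a, ha, rfl⟩; exact Submodule.subset_span ⟨⟨a, ha⟩, rfl⟩

theorem Spans.induction {Γ : Type*} [Group Γ] {ρ : Γ →* GL ι F} (h : Spans ρ) {p : Matrix ι ι F → Prop}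
    (hg : ∀ x, p (val ρ x)) (h0 : p 0) (hadd : ∀ A B, p A → p B → p (A + B)) (hsmul : ∀ (c : F) A, p A → p (c • A))
    (M : Matrix ι ι F) : p M := by
  have : M ∈ Submodule.span F (Set.range fun x => val ρ x) := by rw [h]; exact Submodule.mem_top
  induction this using Submodule.span_induction with
  | mem x hx => obtain ⟨y, rfl⟩ := hx; exact hg y
  | zero => exact h0
  | add A B _ _ hA hB => exact hadd A B hA hB
  | smul c A _ hA => exact hsmul c A hA

theorem trace_mul_eq_zero {A : Matrix ι ι F} (h : ∀ M : Matrix ι ι F, (A * M).trace = 0) : A = 0 := by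
  ext i j
  have := h (Matrix.single j i 1)
  rwa [Matrix.trace_mul_single, MulOpposite.op_one, one_smul] at this

/-- Two absolutely irreducible representations with the same traces are equivalent. -/
theorem intertwiner {Γ : Type*} [Group Γ] (ρ₁ ρ₂ : Γ →* GL ι F) (h1 : Spans ρ₁) (h2 : Spans ρ₂)
    (htr : ∀ x, (val ρ₁ x).trace = (val ρ₂ x).trace) :
    ∃ B : GL ι F, ∀ x, B.1 * val ρ₁ x = val ρ₂ x * B.1 := by
  classical
  cases isEmpty_or_nonempty ι
  · exact ⟨1, fun x => Subsingleton.elim _ _⟩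
  let L₁ : (Γ →₀ F) →ₗ[F] Matrix ι ι F := Finsupp.linearCombination F fun x => val ρ₁ x
  let L₂ : (Γ →₀ F) →ₗ[F] Matrix ι ι F := Finsupp.linearCombination F fun x => val ρ₂ x
  have hs : Function.Surjective L₁ := by
    rw [← LinearMap.range_eq_top, Finsupp.range_linearCombination]; exact h1
  obtain ⟨s, hs⟩ := L₁.exists_rightInverse_of_surjective (LinearMap.range_eq_top.2 hs)
  have hpair : ∀ (c : Γ →₀ F) x, (L₁ c * val ρ₁ x).trace = (L₂ c * val ρ₂ x).trace := by
    intro c x
    induction c using Finsupp.induction_linear with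
    | zero => simp
    | add a b ha hb => simp only [map_add, add_mul, Matrix.trace_add, ha, hb]
    | single y r =>
      simp only [L₁, L₂, Finsupp.linearCombination_single, Matrix.smul_mul, Matrix.trace_smul]
      have : ∀ ρ : Γ →* GL ι F, val ρ y * val ρ x = val ρ (y * x) := fun ρ => by simp [val, map_mul]
      rw [this, this, htr]
  have hker : ∀ c, L₁ c = 0 → L₂ c = 0 := fun c hc => trace_mul_eq_zero fun M => by
    refine h2.induction (p := fun M => (L₂ c * M).trace = 0) (fun x => ?_) (by simp)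
      (fun A B hA hB => by rw [mul_add, Matrix.trace_add, hA, hB, add_zero])
      (fun a A hA => by rw [Matrix.mul_smul, Matrix.trace_smul, hA, smul_zero]) M
    rw [← hpair, hc, zero_mul, Matrix.trace_zero]
  let Φ : Matrix ι ι F →ₗ[F] Matrix ι ι F := L₂ ∘ₗ s
  have hs' : ∀ X, L₁ (s X) = X := fun X => LinearMap.congr_fun hs X
  have hΦ : ∀ x, Φ (val ρ₁ x) = val ρ₂ x := by
    intro x
    have : L₁ (s (val ρ₁ x) - Finsupp.single x 1) = 0 := by
      rw [map_sub, hs']; simp [L₁]
    have := hker _ this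
    rwa [map_sub, sub_eq_zero, show L₂ (Finsupp.single x 1) = val ρ₂ x by simp [L₂]] at this
  have hmul : ∀ x X, Φ (val ρ₁ x * X) = val ρ₂ x * Φ X := by
    intro x X
    refine h1.induction (p := fun X => Φ (val ρ₁ x * X) = val ρ₂ x * Φ X) (fun y => ?_) (by simp)
      (fun A B hA hB => by rw [mul_add, map_add, map_add, hA, hB, mul_add])
      (fun a A hA => by rw [Matrix.mul_smul, map_smul, map_smul, hA, Matrix.mul_smul]) X
    rw [hΦ y, show val ρ₁ x * val ρ₁ y = val ρ₁ (x * y) by simp [val, map_mul], hΦ]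
    simp [val, map_mul]
  have hinj : ∀ X, Φ X = 0 → X = 0 := fun X hX => trace_mul_eq_zero fun M => by
    refine h1.induction (p := fun M => (X * M).trace = 0) (fun x => ?_) (by simp)
      (fun A B hA hB => by rw [mul_add, Matrix.trace_add, hA, hB, add_zero])
      (fun a A hA => by rw [Matrix.mul_smul, Matrix.trace_smul, hA, smul_zero]) M
    conv_lhs => rw [← hs' X]
    rw [hpair, show L₂ (s X) = 0 from hX, zero_mul, Matrix.trace_zero]
  let i₀ := Classical.arbitrary ι
  have hE : Φ (vecMulVec (Pi.single i₀ (1 : F)) (Pi.single i₀ 1)) ≠ 0 := fun h => by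
    have := congrFun (congrFun (hinj _ h) i₀) i₀
    simp [vecMulVec_apply] at this
  obtain ⟨v₂, hv₂⟩ : ∃ v, Φ (vecMulVec (Pi.single i₀ (1 : F)) (Pi.single i₀ 1)) *ᵥ v ≠ 0 := by
    by_contra h
    push Not at h
    exact hE (Matrix.toLin'.injective (LinearMap.ext fun v => by simpa using h v))
  let T : (ι → F) →ₗ[F] (ι → F) :=
    { toFun := fun v => Φ (vecMulVec v (Pi.single i₀ 1)) *ᵥ v₂
      map_add' := fun a b => by rw [Matrix.add_vecMulVec, map_add, Matrix.add_mulVec]
      map_smul' := fun c a => by rw [RingHom.id_apply, Matrix.smul_vecMulVec, map_smul, Matrix.smul_mulVec] }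
  have hT : ∀ x v, T (val ρ₁ x *ᵥ v) = val ρ₂ x *ᵥ T v := fun x v => by
    show Φ _ *ᵥ v₂ = val ρ₂ x *ᵥ (Φ _ *ᵥ v₂)
    rw [Matrix.mulVec_mulVec, ← hmul, Matrix.mul_vecMulVec]
  have hTinj : Function.Injective T := by
    rw [← LinearMap.ker_eq_bot, eq_bot_iff]
    intro v hv
    rw [Submodule.mem_bot]
    by_contra hv0
    have hall : ∀ M : Matrix ι ι F, T (M *ᵥ v) = 0 := fun M => by
      refine h1.induction (p := fun M => T (M *ᵥ v) = 0) (fun x => ?_) (by simp)
        (fun A B hA hB => by rw [Matrix.add_mulVec, map_add, hA, hB, add_zero])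
        (fun a A hA => by rw [Matrix.smul_mulVec, map_smul, hA, smul_zero]) M
      rw [hT, LinearMap.mem_ker.1 hv, Matrix.mulVec_zero]
    obtain ⟨j, hj⟩ := Function.ne_iff.1 hv0
    have hj' : v j ≠ 0 := hj
    have h : (Matrix.single i₀ j (v j)⁻¹) *ᵥ v = Pi.single i₀ (1 : F) := by
      ext k; simp [Matrix.mulVec, dotProduct, Matrix.single_apply, Pi.single_apply, ite_and, eq_comm, hj']
    have h0 := hall (Matrix.single i₀ j (v j)⁻¹)
    rw [h] at h0
    exact hv₂ h0
  have hdet : (LinearMap.toMatrix' T).det ≠ 0 := by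
    rw [LinearMap.det_toMatrix']
    intro h0
    exact absurd (LinearMap.ker_eq_bot.2 hTinj) (ne_of_gt (LinearMap.bot_lt_ker_of_det_eq_zero h0))
  refine ⟨Matrix.GeneralLinearGroup.mkOfDetNeZero _ hdet, fun x => ?_⟩
  refine Matrix.toLin'.injective (LinearMap.ext fun v => ?_)
  show (LinearMap.toMatrix' T * val ρ₁ x) *ᵥ v = (val ρ₂ x * LinearMap.toMatrix' T) *ᵥ v
  rw [← Matrix.mulVec_mulVec, ← Matrix.mulVec_mulVec, LinearMap.toMatrix'_mulVec, LinearMap.toMatrix'_mulVec, hT]

/-- A matrix commuting with an absolutely irreducible group is scalar. -/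
theorem scalar_of_commute [Nonempty ι] {P : Subgroup (GL ι F)} (hP : CfsgLib.Aschbacher.envelope P = ⊤)
    {M : Matrix ι ι F} (h : ∀ g ∈ P, g.1 * M = M * g.1) : ∃ c : F, M = c • (1 : Matrix ι ι F) := by
  have hc : ∀ X : Matrix ι ι F, X * M = M * X := fun X =>
    CfsgLib.Aschbacher.mem_commutant_comm (CfsgLib.Aschbacher.mem_commutant.2 h) (hP.symm ▸ Submodule.mem_top)
  obtain ⟨c, hc⟩ := Matrix.mem_range_scalar_of_commute_single (M := M)
    (fun i j _ => hc (Matrix.single i j 1))
  exact ⟨c, by rw [← hc, Matrix.smul_one_eq_diagonal]; rfl⟩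

/-- The inverse transpose followed by a field automorphism. -/
def dualRep (σ : F ≃+* F) (P : Subgroup (GL ι F)) : P →* GL ι F where
  toFun g :=
    { val := ((g⁻¹ : P).1.1.map σ)ᵀ
      inv := (g.1.1.map σ)ᵀ
      val_inv := by
        rw [← Matrix.transpose_mul, ← Matrix.map_mul (f := σ)]
        simp
      inv_val := by
        rw [← Matrix.transpose_mul, ← Matrix.map_mul (f := σ)]
        simp }
  map_one' := Units.ext (by simp)
  map_mul' a b := Units.ext (by simp [Matrix.map_mul, Matrix.transpose_mul])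

/-- Traces twisted by an involutory automorphism give an invariant form. -/
theorem exists_form [Nonempty ι] {P : Subgroup (GL ι F)} (hP : CfsgLib.Aschbacher.envelope P = ⊤)
    (σ : F ≃+* F) (hσ : ∀ a, σ (σ a) = a)
    (htr : ∀ g ∈ P, σ (g.1.trace) = ((g⁻¹ : GL ι F)).1.trace) :
    ∃ (B : GL ι F) (lam : F), B.1.map σ = lam • B.1ᵀ ∧ ∀ g ∈ P, (g.1.map σ)ᵀ * B.1 * g.1 = B.1 := by
  have h2 : Spans (dualRep σ P) := by
    let e : Matrix ι ι F → Matrix ι ι F := fun X => (X.map σ)ᵀ
    rw [Spans, eq_top_iff]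
    intro X _
    have hX : X = e (e X) := by ext i j; simp [e, hσ]
    rw [hX]
    refine (spans_subtype hP).induction (p := fun M => e M ∈ Submodule.span F (Set.range fun x => val (dualRep σ P) x))
      (fun x => ?_) (by simp [e]) (fun A B hA hB => ?_) (fun c A hA => ?_) (e X)
    · exact Submodule.subset_span ⟨x⁻¹, by simp [e, val, dualRep]⟩
    · have : e (A + B) = e A + e B := by ext i j; simp [e]
      rw [this]; exact Submodule.add_mem _ hA hB
    · have : e (c • A) = σ c • e A := by ext i j; simp [e]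
      rw [this]; exact Submodule.smul_mem _ _ hA
  obtain ⟨B, hB⟩ := intertwiner P.subtype (dualRep σ P) (spans_subtype hP) h2 (fun g => by
    show g.1.1.trace = (((g⁻¹ : P).1.1.map σ)ᵀ).trace
    rw [Matrix.trace_transpose]
    have : (((g⁻¹ : P).1.1).map σ).trace = σ ((g⁻¹ : P).1.1.trace) := by
      simp [Matrix.trace, map_sum]
    rw [this, InvMemClass.coe_inv, ← htr g.1 g.2, hσ])
  have hinv : ∀ g ∈ P, (g.1.map σ)ᵀ * B.1 * g.1 = B.1 := fun g hg => by
    have := hB ⟨g, hg⟩
    rw [show val P.subtype ⟨g, hg⟩ = g.1 from rfl,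
      show val (dualRep σ P) ⟨g, hg⟩ = (((g⁻¹ : GL ι F).1).map σ)ᵀ from rfl] at this
    rw [mul_assoc, this, ← mul_assoc, ← Matrix.transpose_mul, ← Matrix.map_mul (f := σ)]
    simp
  have hC : ∀ g ∈ P, (g.1.map σ)ᵀ * (B.1.map σ)ᵀ * g.1 = (B.1.map σ)ᵀ := fun g hg => by
    conv_rhs => rw [← hinv g hg]
    simp [Matrix.map_mul, Matrix.transpose_mul, Matrix.transpose_map, Matrix.map_map, Function.comp_def, hσ,
      mul_assoc]
  obtain ⟨c, hc⟩ := scalar_of_commute hP (M := (B⁻¹ : GL ι F).1 * (B.1.map σ)ᵀ) (fun g hg => by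
    have h1 := hC g hg
    have h0 := hinv g hg
    have hl : (g.1.map σ)ᵀ * B.1 = B.1 * (g⁻¹ : GL ι F).1 := by
      conv_rhs => rw [← h0]
      rw [mul_assoc _ g.1, ← Units.val_mul, mul_inv_cancel, Units.val_one, mul_one]
    have hu : IsUnit ((g.1.map σ)ᵀ * B.1) := by rw [hl]; exact (B * g⁻¹).isUnit
    apply hu.mul_left_cancel
    calc (g.1.map σ)ᵀ * B.1 * (g.1 * ((B⁻¹ : GL ι F).1 * (B.1.map σ)ᵀ))
        = (g.1.map σ)ᵀ * B.1 * g.1 * (B⁻¹ : GL ι F).1 * (B.1.map σ)ᵀ := by simp only [mul_assoc]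
      _ = (B.1.map σ)ᵀ := by rw [h0]; simp
      _ = (g.1.map σ)ᵀ * (B.1.map σ)ᵀ * g.1 := h1.symm
      _ = _ := by simp [mul_assoc])
  refine ⟨B, c, ?_, hinv⟩
  have h3 : (B.1.map σ)ᵀ = c • B.1 := by
    have := congrArg (B.1 * ·) hc
    simpa [← mul_assoc] using this
  have h4 := congrArg Matrix.transpose h3
  rwa [Matrix.transpose_transpose, Matrix.transpose_smul] at h4

end CfsgLib.ResThree
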