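import Cfsg.Agent.Lib.MaxSub.ResThree.Tv.Main
import Cfsg.Agent.Lib.MaxSub.ResThree.NoTv.Main
import Cfsg.Agent.Lib.MaxSub.ResThree.Dihedral.Main
import Cfsg.Agent.Lib.SmallSimple.Order168
import Cfsg.Agent.Lib.Aschbacher.UnitaryForm

/-!
Small lemmas for the maximal subgroups of the three-dimensional groups in the residual class.
-/

set_option autoImplicit false
set_option linter.unusedSectionVars false
set_option linter.style.haveILetI false

namespace CfsgLib.ResThree

open Matrix

variable {F : Type*} [Field F] [Fintype F]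
variable {P : Subgroup (Matrix.GeneralLinearGroup (Fin 3) F)}

/-- A core without transvections has dihedral Sylow two-subgroups. -/
theorem dihedralSylow_of_core (hP : Core P) (ht : ¬ HasTransvection P) : DihedralSylow P := by
  by_cases h2 : (2 : F) = 0
  · obtain ⟨t, hto⟩ := hP.exists_involution
    have ht2 : t * t = 1 := by rw [← pow_two, ← hto, pow_orderOf_eq_one]
    have ht1 : (t : Matrix.GeneralLinearGroup (Fin 3) F) ≠ 1 := fun e => by
      rw [show t = 1 from Subtype.ext e, orderOf_one] at hto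
      exact absurd hto (by norm_num)
    obtain ⟨c, φ, hr, e⟩ := Tv.root_of_involution h2 t.2 (coe_sq ht2) ht1
    exact absurd ⟨t.1, t.2, c, φ, hr.1, hr.2.1, hr.2.2.dot hP, e⟩ ht
  · exact dihedralSylow_of_no_transvection h2 hP ht

theorem card_l32 : Nat.card (Matrix.ProjectiveSpecialLinearGroup (Fin 3) (ZMod 2)) = 168 := by
  haveI : Fact (Nat.Prime 2) := ⟨Nat.prime_two⟩
  have hu : Function.Bijective (Matrix.SpecialLinearGroup.toGL :
      Matrix.SpecialLinearGroup (Fin 3) (ZMod 2) → GL (Fin 3) (ZMod 2)) :=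
    ⟨Matrix.SpecialLinearGroup.toGL_injective, fun g =>
      ⟨⟨g.1, CfsgLib.Order168.units_two (Matrix.GeneralLinearGroup.det g)⟩, Units.ext rfl⟩⟩
  have hZ : Subgroup.center (Matrix.SpecialLinearGroup (Fin 3) (ZMod 2)) = ⊥ := by
    rw [← Subgroup.card_eq_one, CfsgLib.SLCard.card_SL_center (F := ZMod 2) (n := 3) (by norm_num), ZMod.card]
    norm_num
  rw [← CfsgLib.Order168.gl32.2, ← Nat.card_congr (Equiv.ofBijective _ hu)]
  exact Nat.card_congr ((QuotientGroup.quotientMulEquivOfEq hZ).trans QuotientGroup.quotientBot).toEquiv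

/-- Over two elements a core of order 168 is the whole group. -/
theorem le_of_l32 (hP : Core P) (hF : Fintype.card F = 2)
    (e : P ⧸ (Cfsg.Geo.scalars (Fin 3) F).subgroupOf P ≃* Matrix.ProjectiveSpecialLinearGroup (Fin 3) (ZMod 2)) :
    Cfsg.Geo.specialLinear (Fin 3) F ≤ P := by
  have h1 : Nat.card (GL (Fin 3) F) = 168 := by
    rw [Matrix.card_GL_field]; simp [Fin.prod_univ_three, hF]
  have h2 : 168 ∣ Nat.card P := by
    rw [← card_l32, ← Nat.card_congr e.toEquiv]
    exact Subgroup.card_quotient_dvd_card _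
  have : P = ⊤ := Subgroup.eq_top_of_le_card _ (h1 ▸ Nat.le_of_dvd Nat.card_pos h2)
  rw [this]; exact le_top

/-- A unitary group fixes a unitary form. -/
theorem fixesUnitary_of_gu {q : ℕ} (hF : Fintype.card F = q ^ 2) (hU : P ≤ Cfsg.GU 3 F q) : FixesUnitary P := by
  obtain ⟨σ, -, hf⟩ := CfsgLib.Aschbacher.exists_unitary_hermForm (n := 3) hF
  refine ⟨σ, _, hf, ?_⟩
  rintro _ ⟨g, hg, rfl⟩ u v
  exact hU hg u v

end CfsgLib.ResThree
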